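import Groth.Agent.Lib.QFPoly.Basic
import Groth.Agent.Lib.AffDom.Formula
import Mathlib

/-!
# Quasi-finite flat maps to affine space: exchanging one coordinate at a time
-/

set_option autoImplicit false
set_option linter.style.haveILetI false

universe u

open MvPolynomial

namespace GrothLib.QFChain19

set_option backward.isDefEq.respectTransparency false in
/-- Quasi-finiteness spreads from a point to a basic open. -/
theorem exists_away_of_quasiFiniteAt {P S : Type*} [CommRing P] [CommRing S] [Algebra P S]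
    [Algebra.FiniteType P S] (p : Ideal S) [p.IsPrime] [Algebra.QuasiFiniteAt P p] :
    ∃ r ∉ p, Algebra.QuasiFinite P (Localization.Away r) := by
  obtain ⟨S', hS', r, hr, H⟩ :=
    Algebra.QuasiFiniteAt.exists_fg_and_exists_notMem_and_awayMap_bijective (R := P) p
  haveI : Module.Finite P S' := ⟨(Submodule.fg_top _).mpr hS'⟩
  haveI : Algebra.QuasiFinite P (Localization.Away r) := .trans _ S' _
  exact ⟨r.1, hr, .of_surjective_algHom (Localization.awayMapₐ S'.val r) H.2⟩

variable {k : Type u} [Field k] [IsAlgClosed k] {ι : Type u} [Finite ι] {R : Type u} [CommRing R] [Algebra k R]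
  [Algebra.FiniteType k R]

omit [Finite ι] in
theorem exists_point (q : Ideal R) [q.IsMaximal] : ∃ χ : R →ₐ[k] k, RingHom.ker χ = q := by
  let _ := Ideal.Quotient.field q
  haveI : Module.Finite k (R ⧸ q) := finite_of_finite_type_of_isJacobsonRing k (R ⧸ q)
  let e : k ≃ₐ[k] R ⧸ q := AlgEquiv.ofBijective (Algebra.ofId k (R ⧸ q))
    IsAlgClosed.algebraMap_bijective_of_isIntegral
  refine ⟨e.symm.toAlgHom.comp (Ideal.Quotient.mkₐ k q), ?_⟩
  ext r
  rw [RingHom.mem_ker]
  show e.symm (Ideal.Quotient.mk q r) = 0 ↔ r ∈ q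
  rw [map_eq_zero_iff _ e.symm.injective, Ideal.Quotient.eq_zero_iff_mem]

theorem height_maximal (p : Ideal (MvPolynomial ι k)) [p.IsMaximal] :
    p.height = (Nat.card ι : ℕ∞) := by
  have h := AffDom.height_add_ringKrullDim_quotient (k := k) (MvPolynomial ι k) p
  rw [ringKrullDim_eq_zero_of_isField ((Ideal.Quotient.maximal_ideal_iff_isField_quotient p).mp inferInstance),
    add_zero, MvPolynomial.ringKrullDim_of_isNoetherianRing, ringKrullDim_eq_zero_of_field, zero_add] at h
  exact_mod_cast h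

/-- At closed points the source of a quasi-finite flat map to affine space has the dimension of the space. -/
theorem dim_eq (φ : MvPolynomial ι k →ₐ[k] R) (hqf : φ.toRingHom.QuasiFinite) (hfl : φ.toRingHom.Flat)
    (q : Ideal R) [q.IsMaximal] : ringKrullDim (Localization.AtPrime q) = (Nat.card ι : WithBot ℕ∞) := by
  algebraize [φ.toRingHom]
  haveI : IsNoetherianRing R := Algebra.FiniteType.isNoetherianRing k R
  obtain ⟨χ, hχ⟩ := exists_point (k := k) q
  haveI hp : (q.comap φ.toRingHom).IsMaximal := by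
    rw [← hχ]
    exact RingHom.ker_isMaximal_of_surjective (χ.comp φ).toRingHom fun a => ⟨C a, by simp⟩
  haveI : q.LiesOver (q.comap φ.toRingHom) := ⟨rfl⟩
  rw [((GrothLib.QFPoly.flat_iff (q.comap φ.toRingHom) q).1 inferInstance).2,
    IsLocalization.AtPrime.ringKrullDim_eq_height (q.comap φ.toRingHom), height_maximal]
  rfl

/-- Quasi-finite maps to affine space from a Cohen–Macaulay source of the right dimension are flat. -/
theorem flat_of_qf (hCM : ∀ (q : Ideal R) [q.IsMaximal], LocCoh.IsCohenMacaulayLocalRing (Localization.AtPrime q))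
    (hdim : ∀ (q : Ideal R) [q.IsMaximal], ringKrullDim (Localization.AtPrime q) = (Nat.card ι : WithBot ℕ∞))
    (φ : MvPolynomial ι k →ₐ[k] R) (hqf : φ.toRingHom.QuasiFinite) : φ.toRingHom.Flat := by
  algebraize [φ.toRingHom]
  haveI : IsNoetherianRing R := Algebra.FiniteType.isNoetherianRing k R
  refine Module.flat_of_isLocalized_maximal (R := MvPolynomial ι k) R R (fun q _ => Localization.AtPrime q)
    (fun q _ => Algebra.linearMap R (Localization.AtPrime q)) fun q _ => ?_
  obtain ⟨χ, hχ⟩ := exists_point (k := k) q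
  haveI hp : (q.comap φ.toRingHom).IsMaximal := by
    rw [← hχ]
    exact RingHom.ker_isMaximal_of_surjective (χ.comp φ).toRingHom fun a => ⟨C a, by simp⟩
  haveI : q.LiesOver (q.comap φ.toRingHom) := ⟨rfl⟩
  refine (GrothLib.QFPoly.flat_iff (q.comap φ.toRingHom) q).2 ⟨hCM q, ?_⟩
  rw [hdim q, IsLocalization.AtPrime.ringKrullDim_eq_height (q.comap φ.toRingHom), height_maximal]
  rfl

variable (m : Ideal R) (χ : R →ₐ[k] k)

/-- A tuple cuts out `m` near `m`. -/
def Sop (f : ι → R) : Prop :=
  ∀ Q : Ideal R, Q.IsPrime → Q ≤ m → (∀ i, f i - algebraMap k R (χ (f i)) ∈ Q) → Q = m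

omit [IsAlgClosed k] [Finite ι] in
theorem mem_of_mem_comap {Q : Ideal R} {f : ι → R}
    (h : ∀ i, f i - algebraMap k R (χ (f i)) ∈ Q) (s : MvPolynomial ι k) (hs : χ (aeval f s) = 0) :
    aeval f s ∈ Q := by
  let π := Ideal.Quotient.mkₐ k Q
  have e : π.comp (aeval f) = (Algebra.ofId k (R ⧸ Q)).comp (χ.comp (aeval f)) :=
    algHom_ext fun i => by
      simp only [AlgHom.comp_apply, aeval_X]
      rw [← sub_eq_zero]
      have h0 := Ideal.Quotient.eq_zero_iff_mem.2 (h i)
      rw [map_sub] at h0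
      exact h0
  have h1 := DFunLike.congr_fun e s
  simp only [AlgHom.comp_apply, hs, map_zero] at h1
  exact Ideal.Quotient.eq_zero_iff_mem.1 h1

omit [IsAlgClosed k] in
theorem sop_of_qf [m.IsMaximal] (hχ : RingHom.ker χ = m) (φ : MvPolynomial ι k →ₐ[k] R)
    (hqf : φ.toRingHom.QuasiFinite) : Sop m χ (fun i => φ (X i)) := by
  algebraize [φ.toRingHom]
  intro Q hQ hle hmem
  have hφ : φ = aeval fun i => φ (X i) := aeval_unique φ
  refine Algebra.QuasiFinite.eq_of_le_of_under_eq (R := MvPolynomial ι k) Q m hle (le_antisymm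
    (Ideal.comap_mono hle) fun s hs => ?_)
  show φ s ∈ Q
  rw [hφ]
  refine mem_of_mem_comap χ hmem s ?_
  have h1 : φ s ∈ m := hs
  rw [← hχ, RingHom.mem_ker] at h1
  rwa [← hφ]

omit [IsAlgClosed k] in
theorem exists_away [m.IsMaximal] (hχ : RingHom.ker χ = m) (f : ι → R) (hf : Sop m χ f) :
    ∃ r : R, r ∉ m ∧ ∀ h : R, r ∣ h →
      ((algebraMap R (Localization.Away h)).comp (aeval (R := k) f).toRingHom).QuasiFinite := by
  classical
  haveI : IsNoetherianRing R := Algebra.FiniteType.isNoetherianRing k R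
  let φ : MvPolynomial ι k →ₐ[k] R := aeval f
  algebraize [φ.toRingHom]
  haveI : IsScalarTower k (MvPolynomial ι k) R := IsScalarTower.of_algebraMap_eq fun a =>
    (φ.commutes a).symm
  haveI : Algebra.FiniteType (MvPolynomial ι k) R :=
    Algebra.FiniteType.of_restrictScalars_finiteType k (MvPolynomial ι k) R
  let I : Ideal R := Ideal.span (Set.range fun i => f i - algebraMap k R (χ (f i)))
  have hfin : {P ∈ I.minimalPrimes | P ≠ m}.Finite :=
    (Ideal.finite_minimalPrimes_of_isNoetherianRing R I).subset fun P hP => hP.1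
  have hno : ∀ P ∈ hfin.toFinset, ∃ a ∈ P, a ∉ m := fun P hP => by
    rw [Set.Finite.mem_toFinset] at hP
    haveI := hP.1.isPrime
    refine SetLike.not_le_iff_exists.1 fun hle => hP.2 (hf P inferInstance hle fun i => ?_)
    exact hP.1.le (Ideal.subset_span ⟨i, rfl⟩)
  choose a ha ham using hno
  let g₀ := ∏ P ∈ hfin.toFinset.attach, a P.1 P.2
  have hg₀ : g₀ ∉ m := fun h => by
    obtain ⟨P, -, hP⟩ := (Ideal.IsPrime.prod_mem_iff (p := m)).1 h
    exact ham _ _ hP
  have hIle : ∀ Q : PrimeSpectrum R, Q ∈ PrimeSpectrum.comap (algebraMap (MvPolynomial ι k) R) ⁻¹'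
      {PrimeSpectrum.comap (algebraMap (MvPolynomial ι k) R) ⟨m, inferInstance⟩} → I ≤ Q.asIdeal := by
    intro Q hQ
    rw [Ideal.span_le]
    rintro _ ⟨i, rfl⟩
    have he : (X i - C (χ (f i)) : MvPolynomial ι k) ∈ Q.asIdeal.comap φ.toRingHom := by
      have h2 := congrArg PrimeSpectrum.asIdeal (Set.mem_singleton_iff.1 hQ)
      simp only [PrimeSpectrum.comap_asIdeal] at h2
      have h3 : (X i - C (χ (f i)) : MvPolynomial ι k) ∈ m.comap φ.toRingHom := by
        rw [Ideal.mem_comap, ← hχ, RingHom.mem_ker]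
        simp [φ]
      exact h2.ge h3
    simpa [φ, Ideal.mem_comap] using he
  haveI : Algebra.QuasiFiniteAt (MvPolynomial ι k) m := by
    refine Algebra.QuasiFiniteAt.of_isOpen_singleton_fiber (⟨m, inferInstance⟩ : PrimeSpectrum R) ?_
    rw [isOpen_induced_iff]
    refine ⟨PrimeSpectrum.basicOpen g₀, (PrimeSpectrum.basicOpen g₀).isOpen, Set.ext ?_⟩
    rintro ⟨Q, hQ⟩
    simp only [Set.mem_preimage, SetLike.mem_coe, PrimeSpectrum.mem_basicOpen, Set.mem_singleton_iff,
      Subtype.mk.injEq]
    refine ⟨fun hgQ => ?_, fun h => ?_⟩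
    · skip
      have hI : I ≤ Q.asIdeal := hIle Q hQ
      obtain ⟨P, hP, hPQ⟩ := Ideal.exists_minimalPrimes_le hI
      by_cases hPm : P = m
      · subst hPm
        have e := (Ideal.IsMaximal.eq_of_le ‹P.IsMaximal› Q.2.ne_top hPQ).symm
        first
          | exact e
          | exact PrimeSpectrum.ext e
          | exact Subtype.ext (PrimeSpectrum.ext e)
      · refine absurd ?_ hgQ
        have hPmem : P ∈ hfin.toFinset := hfin.mem_toFinset.2 ⟨hP, hPm⟩
        exact hPQ (Ideal.mem_of_dvd P (Finset.dvd_prod_of_mem _ (Finset.mem_attach _ ⟨P, hPmem⟩)) (ha P hPmem))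
    · have h' : Q.asIdeal = m := by
        first
          | exact h
          | exact congrArg (fun z => z.asIdeal) h
          | exact congrArg (fun z => z.1.asIdeal) h
      rw [h']; exact hg₀
  obtain ⟨r, hr, hqfr⟩ := exists_away_of_quasiFiniteAt (P := MvPolynomial ι k) m
  haveI := hqfr
  refine ⟨r, hr, fun h hrh => ?_⟩
  rw [RingHom.QuasiFinite]
  let F : Localization.Away r →ₐ[R] Localization.Away h :=
    IsLocalization.Away.liftAlgHom r (f := Algebra.ofId _ _)
      (isUnit_of_dvd_unit (map_dvd _ hrh) (IsLocalization.Away.algebraMap_isUnit h))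
  have hT : Algebra.QuasiFinite (MvPolynomial ι k) (Localization.Away h) := by
    refine .of_forall_exists_mul_mem_range (F.restrictScalars _) fun x => ?_
    obtain ⟨n, b, hb⟩ := IsLocalization.Away.surj h x
    refine ⟨algebraMap R _ (h ^ n), ?_, ?_⟩
    · simpa [F] using (IsLocalization.Away.algebraMap_isUnit h).pow n
    · refine ⟨algebraMap R _ b, ?_⟩
      simp [F, ← hb, map_pow, mul_comm]
  exact RingHom.quasiFinite_algebraMap.2 hT

theorem height_eq [m.IsPrime] (hdim : ringKrullDim (Localization.AtPrime m) = (Nat.card ι : WithBot ℕ∞)) :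
    m.height = (Nat.card ι : ℕ∞) := by
  rw [IsLocalization.AtPrime.ringKrullDim_eq_height m] at hdim
  exact WithBot.coe_injective hdim

omit [IsAlgClosed k] in
/-- One coordinate of two tuples can be replaced by a common element. -/
theorem exists_exchange [m.IsMaximal] (hχ : RingHom.ker χ = m) (hh : m.height = (Nat.card ι : ℕ∞))
    [DecidableEq ι] (f g : ι → R) (hf : Sop m χ f) (hg : Sop m χ g) (i : ι) :
    ∃ h ∈ m, Sop m χ (Function.update f i h) ∧ Sop m χ (Function.update g i h) := by
  classical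
  haveI : IsNoetherianRing R := Algebra.FiniteType.isNoetherianRing k R
  let z : (ι → R) → ι → R := fun f j => f j - algebraMap k R (χ (f j))
  let A : (ι → R) → Ideal R := fun f => Ideal.span (z f '' {i}ᶜ)
  let S : (ι → R) → Set (Ideal R) := fun f => {P ∈ (A f).minimalPrimes | P ≤ m}
  have hzm : ∀ (f : ι → R) (j : ι), z f j ∈ m := fun f j => by
    rw [← hχ, RingHom.mem_ker]; simp [z]
  have hne : ∀ f, ∀ P ∈ S f, ¬ m ≤ P := fun f P hP hle => by
    have e : P = m := le_antisymm hP.2 hle
    have h1 := Ideal.height_le_card_of_mem_minimalPrimes_span (Set.toFinite _) (e ▸ hP.1)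
    rw [hh] at h1
    have h2 : (z f '' {i}ᶜ).ncard ≤ ({i}ᶜ : Set ι).ncard := Set.ncard_image_le (Set.toFinite _)
    have h3 : ({i}ᶜ : Set ι).ncard < Nat.card ι := by
      rw [← Set.ncard_univ]
      exact Set.ncard_lt_ncard ⟨Set.subset_univ _, fun hh => (hh (Set.mem_univ i)) rfl⟩ (Set.toFinite _)
    have h4 := ENat.coe_le_coe.1 h1
    omega
  have hfin : (S f ∪ S g).Finite :=
    ((Ideal.finite_minimalPrimes_of_isNoetherianRing R _).union
      (Ideal.finite_minimalPrimes_of_isNoetherianRing R _)).subset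
      (Set.union_subset_union (fun P hP => hP.1) fun P hP => hP.1)
  have hav : ¬ ((m : Set R) ⊆ ⋃ P ∈ hfin.toFinset, (P : Set R)) := by
    rw [← Finset.set_biUnion_coe] at *
    rw [Ideal.subset_union_prime_finite hfin.toFinset.finite_toSet ⊥ ⊥ (fun P hP _ _ => by
      rcases hfin.mem_toFinset.1 (Finset.mem_coe.1 hP) with h | h <;> exact h.1.isPrime)]
    rintro ⟨P, hP, hle⟩
    rcases hfin.mem_toFinset.1 (Finset.mem_coe.1 hP) with h | h
    · exact hne f P h hle
    · exact hne g P h hle
  obtain ⟨h, hm, hh'⟩ := Set.not_subset.1 hav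
  refine ⟨h, hm, ?_⟩
  suffices key : ∀ f : ι → R, Sop m χ f → (∀ P ∈ S f, h ∉ P) → Sop m χ (Function.update f i h) by
    exact ⟨key f hf fun P hP hhP => hh' (Set.mem_biUnion (Finset.mem_coe.2 (hfin.mem_toFinset.2 (.inl hP))) hhP),
      key g hg fun P hP hhP => hh' (Set.mem_biUnion (Finset.mem_coe.2 (hfin.mem_toFinset.2 (.inr hP))) hhP)⟩
  intro f hf hav Q hQ hle hmem
  by_contra hQm
  have hχh : χ h = 0 := by rw [← RingHom.mem_ker, hχ]; exact hm
  have hhQ : h ∈ Q := by simpa [hχh] using hmem i
  have hA : A f ≤ Q := by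
    rw [Ideal.span_le]
    rintro _ ⟨j, hj, rfl⟩
    simpa [z, Function.update_of_ne hj] using hmem j
  obtain ⟨P, hP, hPQ⟩ := Ideal.exists_minimalPrimes_le hA
  haveI := hP.isPrime
  have hPlt : P < Q := lt_of_le_of_ne hPQ fun e => hav P ⟨hP, hPQ.trans hle⟩ (e ▸ hhQ)
  have hQlt : Q < m := lt_of_le_of_ne hle hQm
  have hmin : m ∈ (P ⊔ Ideal.span {z f i}).minimalPrimes := by
    refine ⟨⟨inferInstance, sup_le (hPQ.trans hle)
      ((Ideal.span_singleton_le_iff_mem m).2 (hzm f i))⟩, fun Q' hQ' hle' => ?_⟩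
    refine (hf Q' hQ'.1 hle' fun j => ?_).ge
    by_cases hj : j = i
    · exact hj ▸ hQ'.2 (Ideal.mem_sup_right (Ideal.subset_span rfl))
    · exact hQ'.2 (Ideal.mem_sup_left (hP.le (Ideal.subset_span ⟨j, hj, rfl⟩)))
  have h1 := Ideal.map_height_le_one_of_mem_minimalPrimes hmin
  let π := Ideal.Quotient.mk P
  have hprime : ∀ I : Ideal R, I.IsPrime → P ≤ I → (I.map π).IsPrime := fun I _ hI =>
    Ideal.map_isPrime_of_surjective Ideal.Quotient.mk_surjective (by rwa [Ideal.mk_ker])
  haveI := hprime P inferInstance le_rfl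
  haveI := hprime Q hQ hPQ
  haveI := hprime m inferInstance (hPQ.trans hle)
  have hlt : ∀ I J : Ideal R, P ≤ I → I < J → I.map π < J.map π := fun I J hI hIJ => by
    refine lt_of_le_of_ne (Ideal.map_mono hIJ.le) fun e => hIJ.ne ?_
    have h2 := congrArg (Ideal.comap π) e
    rwa [Ideal.comap_map_of_surjective _ Ideal.Quotient.mk_surjective,
      Ideal.comap_map_of_surjective _ Ideal.Quotient.mk_surjective, ← RingHom.ker_eq_comap_bot,
      Ideal.mk_ker, sup_eq_left.2 hI, sup_eq_left.2 (hI.trans hIJ.le)] at h2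
  have a1 := Ideal.height_add_one_le_of_lt_of_isPrime (hlt P Q le_rfl hPlt)
  have a2 := Ideal.height_add_one_le_of_lt_of_isPrime (hlt Q m hPQ hQlt)
  have a3 : (1 : ℕ∞) + 1 ≤ 1 := by
    calc (1 : ℕ∞) + 1 ≤ (Q.map π).height + 1 := by gcongr; exact le_trans le_add_self a1
      _ ≤ (m.map π).height := a2
      _ ≤ 1 := h1
  norm_num at a3

omit [IsAlgClosed k] in
/-- A chain of tuples changing one coordinate at a time. -/
theorem exists_chain [m.IsMaximal] (hχ : RingHom.ker χ = m) (hh : m.height = (Nat.card ι : ℕ∞))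
    (f g : ι → R) (hf : Sop m χ f) (hg : Sop m χ g) :
    ∃ (N : ℕ) (T : Fin (N + 1) → ι → R), T 0 = f ∧ T (Fin.last N) = g ∧ (∀ j, Sop m χ (T j)) ∧
      ∀ j : Fin N, ∃ i : ι, ∀ i', i' ≠ i → T j.castSucc i' = T j.succ i' := by
  classical
  let n := Nat.card ι
  let e : Fin n ≃ ι := (Finite.equivFin ι).symm
  let mix : (ι → R) → (ι → R) → ℕ → ι → R := fun f h j i => if (e.symm i : ℕ) < j then h i else f i
  have hbuild : ∀ j ≤ n, ∃ h : ι → R, ∀ j' ≤ j, Sop m χ (mix f h j') ∧ Sop m χ (mix g h j') := by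
    intro j
    induction j with
    | zero =>
      refine fun _ => ⟨f, fun j' hj' => ?_⟩
      obtain rfl : j' = 0 := by omega
      simpa [mix] using And.intro hf hg
    | succ j ih =>
      intro hj
      obtain ⟨h, hh'⟩ := ih (by omega)
      obtain ⟨x, -, hx⟩ := exists_exchange m χ hχ hh _ _ (hh' j le_rfl).1 (hh' j le_rfl).2 (e ⟨j, by omega⟩)
      refine ⟨Function.update h (e ⟨j, by omega⟩) x, fun j' hj' => ?_⟩
      have hpos : ∀ i, i ≠ e ⟨j, by omega⟩ → (e.symm i : ℕ) ≠ j := fun i hi hh2 =>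
        hi (by rw [← e.apply_symm_apply i]; exact congrArg e (Fin.ext hh2))
      rcases Nat.lt_or_ge j' (j + 1) with hlt | hge
      · have key : ∀ f : ι → R, mix f (Function.update h (e ⟨j, by omega⟩) x) j' = mix f h j' := fun f => by
          funext i
          by_cases hi : i = e ⟨j, by omega⟩
          · subst hi; simp only [mix, e.symm_apply_apply]; rw [if_neg (by omega), if_neg (by omega)]
          · simp only [mix, Function.update_of_ne hi]
        rw [key, key]; exact hh' j' (by omega)
      · obtain rfl : j' = j + 1 := by omega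
        have key : ∀ f : ι → R, mix f (Function.update h (e ⟨j, by omega⟩) x) (j + 1) =
            Function.update (mix f h j) (e ⟨j, by omega⟩) x := fun f => by
          funext i
          by_cases hi : i = e ⟨j, by omega⟩
          · subst hi; simp [mix]
          · have := hpos i hi
            rw [Function.update_of_ne hi]
            simp only [mix, Function.update_of_ne hi]
            by_cases h2 : (e.symm i : ℕ) < j
            · rw [if_pos h2, if_pos (by omega)]
            · rw [if_neg h2, if_neg (by omega)]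
        rw [key, key]; exact hx
  obtain ⟨h, hh'⟩ := hbuild n le_rfl
  have hfull : ∀ f : ι → R, mix f h n = h := fun f => by funext i; simp [mix, (e.symm i).2]
  refine ⟨n + n, fun j => if (j : ℕ) ≤ n then mix f h j else mix g h (n + n - j), ?_, ?_, fun j => ?_,
    fun j => ?_⟩
  · simp [mix]
  · simp only [Fin.val_last]
    by_cases hn : n + n ≤ n
    · rw [if_pos hn]
      have h0 : n = 0 := by omega
      have hemp : IsEmpty ι := ⟨fun i => by have := (e.symm i).2; omega⟩
      funext i; exact hemp.elim i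
    · rw [if_neg hn]; simp [mix]
  · show Sop m χ (if (j : ℕ) ≤ n then mix f h j else mix g h (n + n - j))
    split_ifs with h1
    · exact (hh' _ h1).1
    · exact (hh' _ (by omega)).2
  · simp only [Fin.val_castSucc, Fin.val_succ]
    have hj := j.2
    by_cases h1 : (j : ℕ) + 1 ≤ n
    · refine ⟨e ⟨j, by omega⟩, fun i hi => ?_⟩
      have : (e.symm i : ℕ) ≠ j := fun hh2 => hi (by rw [← e.apply_symm_apply i]; exact congrArg e (Fin.ext hh2))
      rw [if_pos (by omega), if_pos h1]
      simp only [mix]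
      by_cases h2 : (e.symm i : ℕ) < j
      · rw [if_pos h2, if_pos (by omega)]
      · rw [if_neg h2, if_neg (by omega)]
    · refine ⟨e ⟨n + n - (j + 1), by omega⟩, fun i hi => ?_⟩
      have : (e.symm i : ℕ) ≠ n + n - (j + 1) := fun hh2 =>
        hi (by rw [← e.apply_symm_apply i]; exact congrArg e (Fin.ext hh2))
      rw [if_neg h1]
      by_cases h2 : (j : ℕ) ≤ n
      · have hjn : (j : ℕ) = n := by omega
        rw [if_pos h2, hjn, hfull]
        simp only [mix]
        have := (e.symm i).2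
        rw [if_pos (by omega)]
      · rw [if_neg h2]
        simp only [mix]
        by_cases h3 : (e.symm i : ℕ) < n + n - (j + 1)
        · rw [if_pos h3, if_pos (by omega)]
        · rw [if_neg h3, if_neg (by omega)]

end GrothLib.QFChain19
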