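import Groth.Agent.Lib.QFChain19.Ring
import Groth.Agent.Lib.HB26.Spread
import Mathlib.AlgebraicGeometry.AffineSpace

/-!
# Chains of quasi-finite flat maps to affine space near a closed point
-/

set_option autoImplicit false
set_option linter.style.haveILetI false

universe u

open CategoryTheory CategoryTheory.Limits AlgebraicGeometry

namespace GrothLib.QFChain19

variable {k : Type u} [Field k]

set_option backward.isDefEq.respectTransparency false in
theorem cm_localization {R : CommRingCat.{u}} {X : Scheme.{u}} (f : Spec R ⟶ X) [IsOpenImmersion f]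
    (hCM : ∀ y : X, LocCoh.IsCohenMacaulayLocalRing (X.presheaf.stalk y)) (q : Ideal R) [q.IsPrime] :
    LocCoh.IsCohenMacaulayLocalRing (Localization.AtPrime q) := by
  let p : PrimeSpectrum R := ⟨q, inferInstance⟩
  haveI := hCM (f.base p)
  haveI : LocCoh.IsCohenMacaulayLocalRing ((Spec R).presheaf.stalk p) :=
    GrothLib.HB26.isCohenMacaulayLocalRing_of_ringEquiv (asIso (f.stalkMap p)).commRingCatIsoToRingEquiv
  letI : Algebra R ((Spec R).presheaf.stalk p) := StructureSheaf.stalkAlgebra (↑R) p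
  haveI : IsLocalization q.primeCompl ((Spec R).presheaf.stalk p) := StructureSheaf.IsLocalization.to_stalk R p
  let e := IsLocalization.algEquiv q.primeCompl ((Spec R).presheaf.stalk p) (Localization.AtPrime q)
  exact GrothLib.HB26.isCohenMacaulayLocalRing_of_ringEquiv e.toRingEquiv

/-- A map from an affine scheme over `k` to affine space over `k` is given by a polynomial evaluation. -/
theorem exists_algHom {R : CommRingCat.{u}} [Algebra k R] {ι : Type u}
    (a : Spec R ⟶ AffineSpace ι (Spec (CommRingCat.of k)))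
    (ha : a ≫ (AffineSpace ι (Spec (CommRingCat.of k)) ↘ Spec (CommRingCat.of k)) =
      Spec.map (CommRingCat.ofHom (algebraMap k R)))
    [LocallyQuasiFinite a] [Flat a] :
    ∃ φ : MvPolynomial ι k →ₐ[k] R, φ.toRingHom.QuasiFinite ∧ φ.toRingHom.Flat ∧
      Spec.map (CommRingCat.ofHom φ.toRingHom) ≫ (AffineSpace.SpecIso ι (CommRingCat.of k)).inv = a := by
  obtain ⟨ψ, hψ⟩ := Spec.map_surjective (a ≫ (AffineSpace.SpecIso ι (CommRingCat.of k)).hom)
  have hC : CommRingCat.ofHom MvPolynomial.C ≫ ψ = CommRingCat.ofHom (algebraMap k R) := by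
    apply Spec.map_injective
    rw [Spec.map_comp, hψ, ← AffineSpace.SpecIso_inv_over, Category.assoc, Iso.hom_inv_id_assoc, ha]
  let φ : MvPolynomial ι k →ₐ[k] R :=
    { ψ.hom with commutes' := fun c => congrArg (fun z => z.hom c) hC }
  haveI : LocallyQuasiFinite (Spec.map ψ) := by rw [hψ]; infer_instance
  haveI : Flat (Spec.map ψ) := by rw [hψ]; infer_instance
  refine ⟨φ, ?_, ?_, ?_⟩
  · exact (HasRingHomProperty.Spec_iff (P := @LocallyQuasiFinite)).1 ‹LocallyQuasiFinite (Spec.map ψ)›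
  · exact (Flat.SpecMap_iff).1 ‹Flat (Spec.map ψ)›
  · show Spec.map ψ ≫ _ = a
    rw [hψ, Category.assoc, Iso.hom_inv_id, Category.comp_id]

set_option maxHeartbeats 800000 in
theorem exists_chain_scheme [IsAlgClosed k] (X : Scheme.{u}) (p : X ⟶ Spec (CommRingCat.of k))
    [LocallyOfFiniteType p] (hCM : ∀ y : X, LocCoh.IsCohenMacaulayLocalRing (X.presheaf.stalk y))
    (ι : Type u) [Finite ι] (u v : X ⟶ AffineSpace ι (Spec (CommRingCat.of k)))
    (hu : u ≫ (AffineSpace ι (Spec (CommRingCat.of k)) ↘ Spec (CommRingCat.of k)) = p)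
    (hv : v ≫ (AffineSpace ι (Spec (CommRingCat.of k)) ↘ Spec (CommRingCat.of k)) = p)
    [LocallyQuasiFinite u] [Flat u] [LocallyQuasiFinite v] [Flat v] (x : X) (hx : IsClosed ({x} : Set X)) :
    ∃ (U : X.Opens), x ∈ U ∧ ∃ (m : ℕ) (w : Fin (m + 1) → ((U : Scheme.{u}) ⟶ AffineSpace ι (Spec (CommRingCat.of k)))),
      w 0 = U.ι ≫ u ∧ w (Fin.last m) = U.ι ≫ v ∧
      (∀ j : Fin (m + 1), LocallyQuasiFinite (w j) ∧ Flat (w j) ∧
        w j ≫ (AffineSpace ι (Spec (CommRingCat.of k)) ↘ Spec (CommRingCat.of k)) = U.ι ≫ p) ∧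
      (∀ j : Fin m, ∃ i : ι, ∀ i' : ι, i' ≠ i →
        (w j.castSucc).appTop (AffineSpace.coord (Spec (CommRingCat.of k)) i') =
          (w j.succ).appTop (AffineSpace.coord (Spec (CommRingCat.of k)) i')) := by
  obtain ⟨R, f, hf, x₀, hx₀⟩ : ∃ (R : CommRingCat.{u}) (f : Spec R ⟶ X) (_ : IsOpenImmersion f) (y : Spec R),
      f.base y = x := ⟨_, X.affineCover.f (X.affineCover.idx x), X.affineCover.map_prop _, X.affineCover.covers x⟩
  haveI := hf
  obtain ⟨φk, hφk⟩ := Spec.map_surjective (f ≫ p)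
  letI : Algebra k R := φk.hom.toAlgebra
  haveI : Algebra.FiniteType k R := by
    haveI : LocallyOfFiniteType (Spec.map φk) := by rw [hφk]; infer_instance
    exact (HasRingHomProperty.Spec_iff (P := @LocallyOfFiniteType)).1 ‹LocallyOfFiniteType (Spec.map φk)›
  have hk : Spec.map (CommRingCat.ofHom (algebraMap k R)) = f ≫ p := hφk
  obtain ⟨φu, hqu, hflu, heu⟩ := exists_algHom (f ≫ u) (by rw [Category.assoc, hu, hk])
  obtain ⟨φv, hqv, -, hev⟩ := exists_algHom (f ≫ v) (by rw [Category.assoc, hv, hk])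
  haveI hmax : x₀.asIdeal.IsMaximal := by
    refine (PrimeSpectrum.isClosed_singleton_iff_isMaximal x₀).1 ?_
    have : ({x₀} : Set (Spec R)) = f.base ⁻¹' {x} := by
      ext y; simp [← hx₀, f.isOpenEmbedding.injective.eq_iff]
    exact this ▸ hx.preimage f.continuous
  obtain ⟨χ, hχ⟩ := exists_point (k := k) x₀.asIdeal
  have hh := height_eq x₀.asIdeal (dim_eq φu hqu hflu x₀.asIdeal)
  obtain ⟨N, T, hT0, hTN, hTsop, hTadj⟩ := exists_chain x₀.asIdeal χ hχ hh
    (fun i => φu (MvPolynomial.X i)) (fun i => φv (MvPolynomial.X i))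
    (sop_of_qf _ χ hχ φu hqu) (sop_of_qf _ χ hχ φv hqv)
  choose r hr hqf using fun j => exists_away (k := k) x₀.asIdeal χ hχ (T j) (hTsop j)
  let g := ∏ j, r j
  have hg : g ∉ x₀.asIdeal := fun h => by
    obtain ⟨j, -, hj⟩ := (Ideal.IsPrime.prod_mem_iff (p := x₀.asIdeal)).1 h
    exact hr _ hj
  let L : CommRingCat.{u} := CommRingCat.of (Localization.Away g)
  let e₀ : Spec L ⟶ Spec R := Spec.map (CommRingCat.ofHom (algebraMap R (Localization.Away g)))
  haveI : IsOpenImmersion e₀ := IsOpenImmersion.of_isLocalization g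
  let j' : Spec L ⟶ X := e₀ ≫ f
  haveI : IsOpenImmersion j' := inferInstanceAs (IsOpenImmersion (e₀ ≫ f))
  haveI : Algebra.FiniteType k (Localization.Away g) :=
    Algebra.FiniteType.trans (R := k) (S := R) inferInstance inferInstance
  let ψ : Fin (N + 1) → (MvPolynomial ι k →ₐ[k] Localization.Away g) := fun j =>
    (IsScalarTower.toAlgHom k R (Localization.Away g)).comp (MvPolynomial.aeval (T j))
  have hψqf : ∀ j, (ψ j).toRingHom.QuasiFinite := fun j =>
    hqf j g (Finset.dvd_prod_of_mem _ (Finset.mem_univ j))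
  have hψu : ψ 0 = (IsScalarTower.toAlgHom k R (Localization.Away g)).comp φu := by
    simp only [ψ, hT0]
    congr 1
    exact (MvPolynomial.aeval_unique φu).symm
  have hψv : ψ (Fin.last N) = (IsScalarTower.toAlgHom k R (Localization.Away g)).comp φv := by
    simp only [ψ, hTN]
    congr 1
    exact (MvPolynomial.aeval_unique φv).symm
  have hCMg : ∀ (q : Ideal (Localization.Away g)) [q.IsMaximal],
      LocCoh.IsCohenMacaulayLocalRing (Localization.AtPrime q) := fun q _ => cm_localization (R := L) j' hCM q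
  have hdimg : ∀ (q : Ideal (Localization.Away g)) [q.IsMaximal],
      ringKrullDim (Localization.AtPrime q) = (Nat.card ι : WithBot ℕ∞) := fun q _ => by
    refine dim_eq (ψ 0) (hψqf 0) ?_ q
    rw [hψu]
    exact RingHom.Flat.comp hflu (RingHom.flat_algebraMap_iff.2 (IsLocalization.flat _ (Submonoid.powers g)))
  let U : X.Opens := j'.opensRange
  have hxU : x ∈ U := by
    obtain ⟨z, hz⟩ : x₀ ∈ Set.range (PrimeSpectrum.comap (algebraMap R (Localization.Away g))) := by
      rw [PrimeSpectrum.localization_away_comap_range (Localization.Away g) g]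
      exact hg
    exact ⟨z, (congrArg f.base hz).trans hx₀⟩
  let e : (U : Scheme.{u}) ≅ Spec L := j'.isoOpensRange.symm
  have he : e.hom ≫ j' = U.ι := Scheme.Hom.isoOpensRange_inv_comp j'
  let Q := AffineSpace.SpecIso ι (CommRingCat.of k)
  let w : Fin (N + 1) → ((U : Scheme.{u}) ⟶ AffineSpace ι (Spec (CommRingCat.of k))) := fun j =>
    e.hom ≫ Spec.map (CommRingCat.ofHom (ψ j).toRingHom) ≫ Q.inv
  have hcomp : ∀ (φ : MvPolynomial ι k →ₐ[k] R),
      Spec.map (CommRingCat.ofHom ((IsScalarTower.toAlgHom k R (Localization.Away g)).comp φ).toRingHom) =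
        e₀ ≫ Spec.map (CommRingCat.ofHom φ.toRingHom) := fun φ => by
    rw [← Spec.map_comp]; rfl
  refine ⟨U, hxU, N, w, ?_, ?_, fun j => ⟨?_, ?_, ?_⟩, fun j => ?_⟩
  · show e.hom ≫ Spec.map (CommRingCat.ofHom (ψ 0).toRingHom) ≫ Q.inv = _
    rw [hψu, hcomp, Category.assoc, heu, ← he]; simp [j']
  · show e.hom ≫ Spec.map (CommRingCat.ofHom (ψ (Fin.last N)).toRingHom) ≫ Q.inv = _
    rw [hψv, hcomp, Category.assoc, hev, ← he]; simp [j']
  · haveI : LocallyQuasiFinite (Spec.map (CommRingCat.ofHom (ψ j).toRingHom)) :=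
      (HasRingHomProperty.Spec_iff (P := @LocallyQuasiFinite)).2 (hψqf j)
    infer_instance
  · haveI : Flat (Spec.map (CommRingCat.ofHom (ψ j).toRingHom)) :=
      Flat.SpecMap_iff.2 (flat_of_qf hCMg hdimg (ψ j) (hψqf j))
    infer_instance
  · simp only [w, Q, Category.assoc, AffineSpace.SpecIso_inv_over]
    rw [← he, ← Spec.map_comp]
    have : CommRingCat.ofHom MvPolynomial.C ≫ CommRingCat.ofHom (ψ j).toRingHom =
        φk ≫ CommRingCat.ofHom (algebraMap R (Localization.Away g)) := by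
      ext c
      exact (ψ j).commutes c
    rw [this, Spec.map_comp, hφk]
    simp [j', e₀]
  · obtain ⟨i, hi⟩ := hTadj j
    refine ⟨i, fun i' hi' => ?_⟩
    have key : ∀ l, (w l).appTop (AffineSpace.coord (Spec (CommRingCat.of k)) i') =
        e.hom.appTop ((Scheme.ΓSpecIso L).inv (ψ l (MvPolynomial.X i'))) := fun l => by
      simp only [w, Q, Scheme.Hom.comp_appTop, CommRingCat.comp_apply]
      rw [AffineSpace.SpecIso_inv_appTop_coord]
      have h2 := congrArg (fun z => z (MvPolynomial.X i'))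
        (Scheme.ΓSpecIso_inv_naturality (CommRingCat.ofHom (ψ l).toRingHom))
      simp only [CommRingCat.comp_apply] at h2 ⊢
      exact congrArg e.hom.appTop h2.symm
    rw [key, key]
    simp [ψ, hi i' hi']

end GrothLib.QFChain19
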